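/-
Certificate data of a coset enumeration.
-/
import Cfsg.Agent.Lib.CosetEnum.G416.Data

set_option autoImplicit false
set_option maxRecDepth 1000000

namespace CfsgLib.CosetEnum.G416

open CfsgLib.CosetEnum

theorem points0_ok : okPoints table 6 rels 0 416 = true := by decide +kernel


end CfsgLib.CosetEnum.G416
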