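/-
Certificate data of a coset enumeration.
-/
import Cfsg.Agent.Lib.CosetEnum.Cox
import Cfsg.Agent.Lib.CosetEnum.PresG24
import Cfsg.Agent.Lib.CosetEnum.Orbit
import Cfsg.Agent.Lib.CosetEnum.G416.OrbData
import Cfsg.Agent.Lib.CosetEnum.G416.Facts0
import Cfsg.Agent.Lib.CosetEnum.G416.Rows0
import Cfsg.Agent.Lib.CosetEnum.G416.Points0

set_option autoImplicit false
set_option maxRecDepth 1000000

namespace CfsgLib.CosetEnum.G416

open CfsgLib.CosetEnum

theorem rels_eq : presG24.rels = rels := by decide +kernel

theorem holds {Ω : Type} (base : Ω) (s : ℕ → Ω → Ω) (hinv : ∀ x v, s x (s x v) = v) (hk : ∀ v, s data.k v = v)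
    (hwh : ∀ w < data.nh, run s (wordOf (data.words.get w)) base = base)
    (hwr : ∀ w, data.nh ≤ w → w < data.nw → ∀ v, run s (wordOf (data.words.get w)) v = v) :
    ∀ i < 2586, data.Holds base s i := by
  have h0 : ∀ i < 0, data.Holds base s i := fun i hi => absurd hi (Nat.not_lt_zero i)
  have h1 : ∀ i < 2586, data.Holds base s i := fun i hi =>
    Data.okChunk_sound hinv hk hwh hwr just0 0 just0_ok h0 i (by rw [just0_len]; exact hi)
  exact h1

theorem rows {Ω : Type} (base : Ω) (s : ℕ → Ω → Ω) (hinv : ∀ x v, s x (s x v) = v) (hk : ∀ v, s data.k v = v)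
    (hwh : ∀ w < data.nh, run s (wordOf (data.words.get w)) base = base)
    (hwr : ∀ w, data.nh ≤ w → w < data.nw → ∀ v, run s (wordOf (data.words.get w)) v = v) :
    ∀ d < 416, RowOK data table base s d := by
  have hf := holds base s hinv hk hwh hwr
  have hk16 : data.k < 16 := show 6 < 16 by decide
  have h0 : ∀ d < 0, RowOK data table base s d := fun d hd => absurd hd (Nat.not_lt_zero d)
  have h1 : ∀ d < 416, RowOK data table base s d := fun d hd =>
    okRows_sound hinv hk hk16 hf rows0 0 rows0_ok h0 d (by rw [rows0_len]; exact hd)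
  exact h1

theorem points : ∀ d < 416, PointOK table 6 presG24.rels d := by
  rw [rels_eq]
  have h0 : ∀ d < 0, PointOK table 6 rels d := fun d hd => absurd hd (Nat.not_lt_zero d)
  have h1 : ∀ d < 416, PointOK table 6 rels d := okPoints_sound points0_ok h0
  exact h1

theorem words_ok : okWords data presG24.rels hw rots = true := by
  rw [rels_eq]; decide +kernel

/-- The certified enumeration. -/
noncomputable def cert : Cert presG24 where
  D := data
  T := table
  hw := hw
  rots := rots
  nf := 2586
  hk := rfl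
  hk16 := show 6 < 16 by decide
  nh_le := show 5 ≤ 81 by decide
  hn := show 0 < 416 by decide
  hrep := by decide +kernel
  words_ok := words_ok
  facts_ok := rows
  points_ok := points
  base_ok := by decide +kernel

theorem hlt : ∀ w ∈ presG24.rels, ∀ x ∈ w, x < presG24.k := by
  rw [rels_eq]; exact (show ∀ w ∈ rels, ∀ x ∈ w, x < 6 by decide +kernel)

theorem hhw : ∀ w ∈ hw, ∀ x ∈ w, x < 6 := by decide +kernel

theorem orbs : ∀ d < 416, okOrb table 6 hwR orb roots d = true := by
  have h0 : ∀ d < 0, okOrb table 6 hwR orb roots d = true := fun d hd => absurd hd (Nat.not_lt_zero d)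
  have h1 : ∀ d < 416, okOrb table 6 hwR orb roots d = true := okOrbs_sound orbs0_ok h0
  exact h1


end CfsgLib.CosetEnum.G416
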